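import Groth.Agent.DSMapLib.Exact
import Groth.Agent.TrivAct.Apps
import Groth.Agent.SplitHom.Props
import Groth.Prelude.Def_ChGrp
/-!
A finite diagonalisable group over a field as the stabiliser in a torus acting on a torus.
-/

set_option autoImplicit false
set_option backward.isDefEq.respectTransparency false
set_option backward.isDefEq.respectTransparency.types false
set_option linter.style.haveILetI false

universe u

open CategoryTheory CategoryTheory.Limits MonoidalCategory CartesianMonoidalCategory AlgebraicGeometry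

namespace Groth.Agent.BDiagLib

attribute [local instance] Hom.monoid Hom.group

open FixedSmooth

variable (k : Type u) [Field k] {M N Q : Type} [AddCommGroup M] [AddCommGroup N] [AddCommGroup Q]

theorem pt_comp (B : CommRingCat.{u}) (q : Spec B ⟶ Spec (CommRingCat.of k)) (φ : M →+ N)
    (χ : Multiplicative N →* B) :
    (TrivAct.diagSplit k N).pt B q χ ≫ Red.diagMap k φ = (TrivAct.diagSplit k M).pt B q (χ.comp φ.toMultiplicative) := by
  letI : Algebra k B := (Spec.preimage q).hom.toAlgebra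
  apply Over.OverMorphism.ext
  have h := congrArg CommaMorphism.left (DSMapLib.diagPt_comp k φ χ : diagPt k N B χ ≫ _ = _)
  show (𝟙 _ ≫ (diagPt k N B χ).left) ≫ (Red.diagMap k φ).left = 𝟙 _ ≫ (diagPt k M B _).left
  rw [Category.id_comp, Category.id_comp]
  exact h

theorem isClosedImmersion_diagMap (ψ : N →+ Q) (hψ : Function.Surjective ψ) :
    IsClosedImmersion (Red.diagMap k ψ).left :=
  IsClosedImmersion.spec_of_surjective (CommRingCat.ofHom
    (MonoidAlgebra.mapDomainAlgHom k k (AddMonoidHom.toMultiplicative ψ)).toRingHom)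
    (fun z => by
      induction z using MonoidAlgebra.induction_linear with
      | zero => exact ⟨0, map_zero _⟩
      | add a b ha hb =>
        obtain ⟨a', rfl⟩ := ha
        obtain ⟨b', rfl⟩ := hb
        exact ⟨a' + b', map_add _ _ _⟩
      | single n r =>
        obtain ⟨m, hm⟩ := hψ (Multiplicative.toAdd n)
        refine ⟨MonoidAlgebra.single (Multiplicative.ofAdd m) r, ?_⟩
        show MonoidAlgebra.mapDomain _ (MonoidAlgebra.single (Multiplicative.ofAdd m) r) = _
        rw [MonoidAlgebra.mapDomain_single]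
        show MonoidAlgebra.single (Multiplicative.ofAdd (ψ m)) r = _
        rw [hm, ofAdd_toAdd])

theorem comp_eq_one (φ : M →+ N) (ψ : N →+ Q) (h : ψ.comp φ = 0) :
    Red.diagMap k ψ ≫ Red.diagMap k φ = 1 := by
  refine hom_ext_affine _ _ fun B q w => ?_
  let e : Over.mk (q ≫ 𝟙 _) ≅ Over.mk q := Over.isoMk (Iso.refl _) (by simp)
  rw [← cancel_epi e.hom]
  obtain ⟨χ, hχ⟩ := ((TrivAct.diagSplit k Q).pt B q).surjective (e.hom ≫ w)
  rw [MonObj.comp_one, MonObj.comp_one, ← Category.assoc, ← hχ, ← Category.assoc, pt_comp, pt_comp]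
  have hc : (χ.comp ψ.toMultiplicative).comp φ.toMultiplicative = 1 := by
    ext m
    show χ (Multiplicative.ofAdd ((ψ.comp φ) (Multiplicative.toAdd m))) = 1
    rw [h]
    exact map_one χ
  rw [hc, map_one]

theorem exists_lift_of_comp_eq_one (φ : M →+ N) (ψ : N →+ Q) (hψ : Function.Surjective ψ) (hker : ψ.ker ≤ φ.range)
    {X : Over (Spec (CommRingCat.of k))} (f : X ⟶ Red.diag k N) (hf : f ≫ Red.diagMap k φ = 1) :
    ∃ c : X ⟶ Red.diag k Q, c ≫ Red.diagMap k ψ = f := by
  haveI := DSMapLib.mono_of_isClosedImmersion _ (isClosedImmersion_diagMap k ψ hψ)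
  refine DSMapLib.exists_lift_of_affine (Red.diagMap k ψ) f fun B q w => ?_
  let e : Over.mk (q ≫ 𝟙 _) ≅ Over.mk q := Over.isoMk (Iso.refl _) (by simp)
  obtain ⟨χ, hχ⟩ := ((TrivAct.diagSplit k N).pt B q).surjective (e.hom ≫ w ≫ f)
  have h1 : χ.comp φ.toMultiplicative = 1 := by
    apply ((TrivAct.diagSplit k M).pt B q).injective
    rw [← pt_comp, hχ, Category.assoc, Category.assoc, hf, MonObj.comp_one, MonObj.comp_one, map_one]
  have hle : ψ.toMultiplicative.ker ≤ MonoidHom.ker χ.toHomUnits := fun m hm => by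
    obtain ⟨a, ha⟩ := hker (show ψ (Multiplicative.toAdd m) = 0 from hm)
    rw [MonoidHom.mem_ker, show m = φ.toMultiplicative (Multiplicative.ofAdd a) from ha.symm]
    exact Units.ext (DFunLike.congr_fun h1 _)
  let χ₀ : Multiplicative Q →* Bˣ := (ψ.toMultiplicative).liftOfSurjective hψ ⟨χ.toHomUnits, hle⟩
  refine ⟨e.inv ≫ (TrivAct.diagSplit k Q).pt B q ((Units.coeHom _).comp χ₀), ?_⟩
  have hc : ((Units.coeHom B).comp χ₀).comp ψ.toMultiplicative = χ := by
    ext m
    exact congrArg Units.val (DFunLike.congr_fun (MonoidHom.liftOfRightInverse_comp ψ.toMultiplicative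
      (Function.surjInv hψ) (Function.rightInverse_surjInv hψ) ⟨χ.toHomUnits, hle⟩) m)
  rw [Category.assoc, pt_comp, hc, hχ, Iso.inv_hom_id_assoc]

theorem fppf_diagMap [AddMonoid.FG M] [AddMonoid.FG N] (φ : M →+ N) (hφ : Function.Injective φ) :
    Flat (Red.diagMap k φ).left ∧ Surjective (Red.diagMap k φ).left ∧
      LocallyOfFinitePresentation (Red.diagMap k φ).left := by
  obtain ⟨h1, h2⟩ := (SplitHom.charIff_flat_surjective (CommRingCat.of k) N M φ.toMultiplicative).2 (fun _ _ h => hφ h)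
  refine ⟨h1, h2, ?_⟩
  let g : MonoidAlgebra k (Multiplicative M) →ₐ[k] MonoidAlgebra k (Multiplicative N) :=
    MonoidAlgebra.mapDomainAlgHom k k (AddMonoidHom.toMultiplicative φ)
  haveI : Algebra.FinitePresentation k (MonoidAlgebra k (Multiplicative N)) :=
    Algebra.FinitePresentation.of_finiteType.1 inferInstance
  haveI : Algebra.FiniteType k (MonoidAlgebra k (Multiplicative M)) := inferInstance
  show LocallyOfFinitePresentation (Spec.map (CommRingCat.ofHom g.toRingHom))
  rw [HasRingHomProperty.Spec_iff (P := @LocallyOfFinitePresentation)]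
  letI := g.toRingHom.toAlgebra
  haveI : IsScalarTower k (MonoidAlgebra k (Multiplicative M)) (MonoidAlgebra k (Multiplicative N)) :=
    .of_algebraMap_eq fun x => (g.commutes x).symm
  exact Algebra.FinitePresentation.of_restrict_scalars_finitePresentation k (MonoidAlgebra k (Multiplicative M))
    (MonoidAlgebra k (Multiplicative N))

theorem formallySmooth_free (R : Type u) [CommRing R] (r : ℕ) :
    Algebra.FormallySmooth R (MonoidAlgebra R (Multiplicative (Fin r → ℤ))) := by
  refine Algebra.FormallySmooth.of_comp_surjective fun B _ _ I hI f => ?_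
  let t : Fin r → Multiplicative (Fin r → ℤ) := fun i => Multiplicative.ofAdd (Pi.single i 1)
  have hl : ∀ i, ∃ u : Bˣ, Ideal.Quotient.mk I (u : B) = f (MonoidAlgebra.single (t i) 1) := fun i => by
    obtain ⟨b, hb⟩ := Ideal.Quotient.mk_surjective (f (MonoidAlgebra.single (t i) 1))
    have h1 : IsUnit (f (MonoidAlgebra.single (t i) 1)) :=
      ((Group.isUnit (t i)).map (MonoidAlgebra.of R (Multiplicative (Fin r → ℤ)))).map f
    obtain ⟨c, hc⟩ := Ideal.Quotient.mk_surjective (↑h1.unit⁻¹ : B ⧸ I)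
    have h2 : b * c - 1 ∈ I := by
      rw [← Ideal.Quotient.eq, map_mul, hb, hc, map_one]
      exact h1.mul_val_inv
    have h3 : IsNilpotent (b * c - 1) := ⟨2, by
      have := Ideal.pow_mem_pow h2 2
      rwa [hI, Ideal.mem_bot] at this⟩
    exact ⟨(isUnit_of_mul_isUnit_left (x := b) (y := c) (by simpa using h3.isUnit_add_one)).unit, hb⟩
  choose u hu using hl
  let θ₀ : (Fin r → ℤ) →+ Additive Bˣ := ((Pi.basisFun ℤ (Fin r)).constr ℤ fun i => Additive.ofMul (u i)).toAddMonoidHom
  let θ : Multiplicative (Fin r → ℤ) →* B := (Units.coeHom B).comp (AddMonoidHom.toMultiplicativeLeft θ₀)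
  refine ⟨MonoidAlgebra.lift R B _ θ, MonoidAlgebra.algHom_ext' ?_ (by ext)⟩
  let f₁ : Multiplicative (Fin r → ℤ) →* (B ⧸ I)ˣ := (Units.map (Ideal.Quotient.mk I : B →* B ⧸ I)).comp
    (AddMonoidHom.toMultiplicativeLeft θ₀)
  let f₂ : Multiplicative (Fin r → ℤ) →* (B ⧸ I)ˣ :=
    ((f : MonoidAlgebra R (Multiplicative (Fin r → ℤ)) →* B ⧸ I).comp (MonoidAlgebra.of R _)).toHomUnits
  have key : (MonoidHom.toAdditiveRight f₁).toIntLinearMap = (MonoidHom.toAdditiveRight f₂).toIntLinearMap := by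
    refine (Pi.basisFun ℤ (Fin r)).ext fun i => ?_
    apply Additive.toMul.injective
    apply Units.ext
    have hθ : θ₀ (Pi.single i 1) = Additive.ofMul (u i) := by
      rw [← Pi.basisFun_apply ℤ (Fin r) i]
      exact (Pi.basisFun ℤ (Fin r)).constr_basis ℤ _ i
    show Ideal.Quotient.mk I ((θ₀ ((Pi.basisFun ℤ (Fin r)) i)).toMul : B) = f (MonoidAlgebra.single _ 1)
    rw [Pi.basisFun_apply, hθ]
    exact hu i
  refine MonoidHom.ext fun m => ?_
  have h4 := congrArg Units.val (congrArg Additive.toMul (LinearMap.congr_fun key (Multiplicative.toAdd m)))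
  simpa [θ, f₁, f₂] using h4

theorem smooth_diag_free (R : Type u) [CommRing R] [IsNoetherianRing R] (r : ℕ) :
    Smooth (Red.diag R (Fin r → ℤ)).hom := by
  show Smooth (Spec.map (CommRingCat.ofHom (algebraMap R (MonoidAlgebra R (Multiplicative (Fin r → ℤ))))))
  rw [HasRingHomProperty.Spec_iff (P := @Smooth)]
  haveI := formallySmooth_free R r
  haveI : Algebra.FinitePresentation R (MonoidAlgebra R (Multiplicative (Fin r → ℤ))) :=
    Algebra.FinitePresentation.of_finiteType.1 inferInstance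
  exact RingHom.smooth_algebraMap.2 ⟨inferInstance, inferInstance⟩

/-- An exact sequence of finitely generated groups gives a homogeneous space. -/
theorem isHomog_diagMap [AddMonoid.FG M] [AddMonoid.FG N] (φ : M →+ N) (ψ : N →+ Q) [IsMonHom (Red.diagMap k φ)]
    [IsMonHom (Red.diagMap k ψ)] (hφ : Function.Injective φ) (hψ : Function.Surjective ψ) (h0 : ψ.comp φ = 0)
    (hker : ψ.ker ≤ φ.range) :
    ChGrp.IsHomog Scheme.fppfPrecoverage (Red.diagMap k ψ)
      ((NonAbH1.trivialAction (Red.diag k M)).restrict (Red.diagMap k φ)) 1 := by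
  haveI := DSMapLib.mono_of_isClosedImmersion _ (isClosedImmersion_diagMap k ψ hψ)
  haveI : Mono (Red.diagMap k ψ) := Over.mono_of_mono_left _
  have ho : ((NonAbH1.trivialAction (Red.diag k M)).restrict (Red.diagMap k φ)).orbitMap 1 = Red.diagMap k φ := by
    have h := AlgGrp.Action.comp_orbitMap ((NonAbH1.trivialAction (Red.diag k M)).restrict (Red.diagMap k φ)) (𝟙 _) 1
    rw [Category.id_comp] at h
    rw [h, MonObj.comp_one, AlgGrp.Action.lift_restrict_act, Category.id_comp]
    exact (Hom.mul_def _ _).symm.trans (mul_one _)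
  unfold ChGrp.IsHomog
  rw [ho]
  refine ⟨‹_›, DSMapLib.isPullback_of_pts (S := Spec (CommRingCat.of k)) (G := Red.diag k N) (G' := Red.diag k Q)
    (G'' := Red.diag k M) (Red.diagMap k ψ) (Red.diagMap k φ) (comp_eq_one k φ _ h0)
    fun f hf => exists_lift_of_comp_eq_one k φ _ hψ hker f hf, ?_⟩
  obtain ⟨h1, h2, h3⟩ := fppf_diagMap k φ hφ
  haveI := h1; haveI := h2; haveI := h3
  let v := (Red.diagMap k φ).left
  refine ⟨Presieve.singleton v, ?_, fun S' f hf => ?_⟩
  · rw [← Presieve.ofArrows_pUnit.{0}]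
    exact (v.cover (P := @Flat ⊓ @LocallyOfFinitePresentation) ⟨inferInstance, inferInstance⟩).mem₀
  · obtain ⟨⟩ := hf
    exact ⟨𝟙 _, Category.id_comp _⟩

set_option maxHeartbeats 1000000 in
/-- The homogeneous space of a torus with stabiliser a diagonalisable group. -/
theorem exists_homog (M : Type) [AddCommGroup M] [Module.Finite ℤ M] :
    ∃ (n r : ℕ) (i : Red.diag k M ⟶ Red.diag k (Fin n → ℤ)) (_ : IsMonHom i) (_ : IsClosedImmersion i.left)
      (aQ : AlgGrp.Action (Red.diag k (Fin n → ℤ)) (Red.diag k (Fin r → ℤ)))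
      (q₀ : 𝟙_ (Over (Spec (CommRingCat.of k))) ⟶ Red.diag k (Fin r → ℤ)),
      ChGrp.IsHomog Scheme.fppfPrecoverage i aQ q₀ := by
  obtain ⟨n, ψ, hψ⟩ := Module.Finite.exists_fin' ℤ M
  obtain ⟨r, b⟩ := Submodule.basisOfPid (Pi.basisFun ℤ (Fin n)) (LinearMap.ker ψ)
  let φ : (Fin r → ℤ) →+ (Fin n → ℤ) := ((LinearMap.ker ψ).subtype.comp b.equivFun.symm.toLinearMap).toAddMonoidHom
  have hφ : Function.Injective φ := Subtype.val_injective.comp b.equivFun.symm.injective
  have h0 : (ψ.toAddMonoidHom).comp φ = 0 := AddMonoidHom.ext fun x => (b.equivFun.symm x).2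
  have hker : (ψ.toAddMonoidHom).ker ≤ φ.range := fun x hx =>
    ⟨b.equivFun ⟨x, hx⟩, congrArg Subtype.val (b.equivFun.symm_apply_apply ⟨x, hx⟩)⟩
  haveI hi : IsMonHom (Red.diagMap k ψ.toAddMonoidHom) := DSMapLib.isMonHom_diagMap k _
  haveI : IsMonHom (Red.diagMap k φ) := DSMapLib.isMonHom_diagMap k _
  haveI : AddMonoid.FG (Fin r → ℤ) := AddGroup.fg_iff_addMonoid_fg.1 (Module.Finite.iff_addGroup_fg.1 inferInstance)
  haveI : AddMonoid.FG (Fin n → ℤ) := AddGroup.fg_iff_addMonoid_fg.1 (Module.Finite.iff_addGroup_fg.1 inferInstance)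
  exact ⟨n, r, Red.diagMap k ψ.toAddMonoidHom, hi, isClosedImmersion_diagMap k ψ.toAddMonoidHom hψ, _, 1,
    isHomog_diagMap k φ ψ.toAddMonoidHom hφ hψ h0 hker⟩

end Groth.Agent.BDiagLib
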