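import Groth.Agent.BDiagLib.Seq
import Groth.Agent.BalQuotLib.Homog
import Groth.Agent.BalQuotLib.Equiv
import Groth.Agent.FinQuotLib.Homeo
import Groth.Agent.ASt.OverMapRep
import Groth.Agent.ASt.DiagCancel
import Groth.Agent.ASt.LocQSp
/-!
The classifying stack of a finite diagonalisable group over a field is smooth.
-/

set_option autoImplicit false
set_option backward.isDefEq.respectTransparency false
set_option backward.isDefEq.respectTransparency.types false
set_option linter.style.haveILetI false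
set_option linter.unusedSectionVars false

universe u

open CategoryTheory CategoryTheory.Limits MonoidalCategory CartesianMonoidalCategory AlgebraicGeometry

namespace Groth.Agent.BDiagLib

open Groth.Agent.ASt Groth.Agent.RepOne Groth.Agent.DecSec

variable {S : Scheme.{u}}

theorem smooth_toSelf_base :
    AlgSt.RepByAlgSpWith (AlgSp.LocP @Smooth) (FibCat.toSelf (FibCat.overCat (Over.mk (𝟙 S)))) := by
  let B : Over S := Over.mk (𝟙 S)
  have hE : FibCat.IsEquivOver (FibCat.toSelf (FibCat.overCat B)) :=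
    isEquivOver_of_bijective _ fun T => ⟨fun a b _ => (bijective_overHom T).1 (Over.OverMorphism.ext (by
      simpa [B] using (Over.w (overHom a)).trans (Over.w (overHom b)).symm)), fun c => by
      obtain ⟨t, ht, rfl⟩ := cl_exists c
      exact ⟨cl (ov (Over.homMk T.hom (Category.comp_id _) : T ⟶ B)) rfl,
        cl_eq_iff.2 ⟨eqToHom ht.symm, eqToHom_map _ _⟩⟩⟩
  have h : AlgSt.RepByAlgSpWith (AlgSp.LocP @Smooth) (AlgSt.overMap (𝟙 B)) :=
    repByAlgSpWith_overMap_locP (M := @Smooth) (inferInstanceAs (Smooth (𝟙 S)))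
  rw [← comp_toSelf (AlgSt.overMap (𝟙 B))]
  exact repByAlgSpWith_postcomp _ hE h

/-- A stack with a smooth surjective chart by a smooth scheme is smooth. -/
theorem locQ_smooth_toSelf {𝒳 : AlgSt.Cat S} [FibCat.IsFibGrpd 𝒳.p] {U : Over S} [Smooth U.hom] (x : FibCat.overCat U ⥤ᵇ 𝒳)
    (hx : AlgSt.RepByAlgSpWith (AlgSp.LocP @Smooth) x) (hs : AlgSt.RepByAlgSpWith AlgSp.IsSurjectiveMor x) :
    AlgSt.LocQ (AlgSp.LocP @Smooth) (FibCat.toSelf 𝒳) := by
  let h : U ⟶ Over.mk (𝟙 S) := Over.homMk U.hom (Category.comp_id _)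
  haveI : Smooth h.left := ‹_›
  exact ⟨U, Over.mk (𝟙 S), x, FibCat.toSelf _, h, eqToIso ((comp_toSelf x).trans (comp_toSelf (AlgSt.overMap h)).symm),
    hx, hs, smooth_toSelf_base, Groth.Agent.ASp.locP_of_repWith (Groth.Agent.ASp.repWith_yon_map inferInstance)⟩

/-- A quotient presentation of `BH` by a smooth affine group on a smooth scheme makes `BH` smooth. -/
theorem locQ_smooth_BG_of_homog {G H Q : Over S} [GrpObj G] [GrpObj H] (i : H ⟶ G) [IsMonHom i]
    [IsClosedImmersion i.left] [IsAffineHom G.hom] [Smooth G.hom] [Smooth Q.hom]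
    (aQ : AlgGrp.Action G Q) (q₀ : 𝟙_ (Over S) ⟶ Q) (hQ : ChGrp.IsHomog Scheme.fppfPrecoverage i aQ q₀) :
    AlgSt.LocQ (AlgSp.LocP @Smooth) (FibCat.toSelf (AlgSt.BG Scheme.fppfPrecoverage H)) := by
  haveI : Mono i := Over.mono_of_mono_left i
  haveI : IsAffineHom H.hom := by rw [← Over.w i]; infer_instance
  have e0 : (AlgSt.trivAction G).restrict i = AlgSt.trivAction H := by
    rcases h1 : (AlgSt.trivAction G).restrict i with ⟨a, p, q⟩
    rcases h2 : AlgSt.trivAction H with ⟨a', p', q'⟩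
    obtain rfl : a = a' := toUnit_unique _ _
    rfl
  obtain ⟨F, hF⟩ := BalQuotLib.isQuotientOf_balProd i (BalQuotLib.isBalProd_homog (AlgSt.trivAction G) hQ)
  let aY := aQ.prod (AlgSt.trivAction G)
  haveI : FibCat.IsFibGrpd (AlgSt.QuotSt Scheme.fppfPrecoverage G aY).p := QuotSch.isFibGrpd_quot
  haveI : FibCat.IsFibGrpd (AlgSt.QuotSt Scheme.fppfPrecoverage H ((AlgSt.trivAction G).restrict i)).p :=
    QuotSch.isFibGrpd_quot
  obtain ⟨E, hE, -, -⟩ := isEquivOver_symm hF
  haveI : Smooth (Q ⊗ 𝟙_ (Over S)).hom := by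
    haveI : IsIso (fst Q (𝟙_ (Over S))).left := by
      haveI : IsIso (fst Q (𝟙_ (Over S))) := ⟨lift (𝟙 Q) (toUnit Q), by
        rw [comp_lift, Category.comp_id]
        apply CartesianMonoidalCategory.hom_ext
        · simp
        · exact toUnit_unique _ _, lift_fst _ _⟩
      exact inferInstanceAs (IsIso ((Over.forget S).map (fst Q (𝟙_ (Over S)))))
    rw [← Over.w (fst Q (𝟙_ (Over S)))]
    infer_instance
  have h1 := QuotSch.repByAlgSpWith_qFun (P := AlgSp.LocP @Smooth) (G := G) (aX := aY)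
    fun A => QuotSch.locP_π (P := @Smooth) ‹Smooth G.hom› A
  have h2 := QuotSch.repByAlgSpWith_qFun_surjective (G := G) (aX := aY)
  rw [show AlgSt.BG Scheme.fppfPrecoverage H =
    AlgSt.QuotSt Scheme.fppfPrecoverage H ((AlgSt.trivAction G).restrict i) by rw [e0]]
  exact locQ_smooth_toSelf _ (repByAlgSpWith_postcomp E hE h1) (repByAlgSpWith_postcomp E hE h2)

end Groth.Agent.BDiagLib
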